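import Mathlib
import Cfsg.Prelude.Def_Transfer
import Cfsg.Agent.Lib.Helper11.ThompsonOf

set_option autoImplicit false

namespace Cfsg.Agent.Lib.Helper76.KS12

open Cfsg Cfsg.Agent.Lib.Helper11

universe u
variable {G : Type u} [Group G]

/-- `J(x P x⁻¹) = x J(P) x⁻¹`. -/
theorem thompsonOf_conj (p : ℕ) (P : Subgroup G) (x : G) :
    thompsonSubgroupOf p (P.map (MulAut.conj x).toMonoidHom) =
      (thompsonSubgroupOf p P).map (MulAut.conj x).toMonoidHom :=
  thompsonSubgroupOf_map p _ (MulAut.conj x).injective P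

/-- If `J(S) ≤ x S x⁻¹` then `J(x S x⁻¹) = J(S)`. -/
theorem thompsonOf_eq_of_le_conj [Finite G] (p : ℕ) (S : Subgroup G) (x : G)
    (h : thompsonSubgroupOf p S ≤ S.map (MulAut.conj x).toMonoidHom) :
    thompsonSubgroupOf p (S.map (MulAut.conj x).toMonoidHom) = thompsonSubgroupOf p S := by
  have hcard : Nat.card (thompsonSubgroupOf p (S.map (MulAut.conj x).toMonoidHom)) =
      Nat.card (thompsonSubgroupOf p S) := by
    rw [thompsonOf_conj, Subgroup.card_map_of_injective (MulAut.conj x).injective]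
  have hle : thompsonSubgroupOf p S ≤
      thompsonSubgroupOf p (S.map (MulAut.conj x).toMonoidHom) := by
    rw [thompsonSubgroupOf_eq p S, sSup_le_iff]
    intro A hA
    apply le_thompsonSubgroupOf
    refine ⟨(le_thompsonSubgroupOf hA).trans h, hA.2.1, ?_⟩
    intro B hB hBe
    have hB' : B.map (MulAut.conj x⁻¹).toMonoidHom ≤ S := by
      rintro _ ⟨y, hy, rfl⟩
      obtain ⟨s, hs, hsy⟩ := hB hy
      have : (MulAut.conj x⁻¹).toMonoidHom y = s := by
        rw [← hsy]
        simp [MulAut.conj_apply, mul_assoc]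
      rw [this]
      exact hs
    have := hA.2.2 (B.map (MulAut.conj x⁻¹).toMonoidHom) hB' (elemAb_map _ hBe)
    rwa [Subgroup.card_map_of_injective (MulAut.conj x⁻¹).injective] at this
  exact (Subgroup.eq_of_le_of_card_ge hle hcard.le).symm

/-- For a Sylow `p`-subgroup `S` and a `p`-subgroup `R` containing `J(S)`: `J(R) = J(S)`. -/
theorem thompsonOf_eq_of_le_pgroup [Finite G] (p : ℕ) [Fact p.Prime] (S : Sylow p G)
    (R : Subgroup G) (hR : IsPGroup p R) (h : thompsonSubgroupOf p (S : Subgroup G) ≤ R) :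
    thompsonSubgroupOf p R = thompsonSubgroupOf p (S : Subgroup G) := by
  obtain ⟨S₁, hS₁⟩ := hR.exists_le_sylow
  obtain ⟨x, hx⟩ := MulAction.exists_smul_eq G S S₁
  have hS₁' : (S₁ : Subgroup G) = (S : Subgroup G).map (MulAut.conj x).toMonoidHom := by
    rw [← hx]
    rfl
  have h1 : thompsonSubgroupOf p (S₁ : Subgroup G) = thompsonSubgroupOf p (S : Subgroup G) := by
    rw [hS₁']
    apply thompsonOf_eq_of_le_conj
    rw [← hS₁']
    exact h.trans hS₁
  rw [← h1]
  apply thompsonSubgroupOf_eq_of_le hS₁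
  rw [h1]
  exact h

/-- Burnside-type control of fusion in `C(J(S))` by `N(J(S))`: if `a, b` centralize `J(S)`,
`g a g⁻¹ = b`, and `N(J(S)) ≤ L`, `C(b) ≤ L`, then `g ∈ L`. -/
theorem mem_of_conj_of_thompson_le [Finite G] (S : Sylow 2 G) (L : Subgroup G)
    (hNJ : Subgroup.normalizer (thompsonSubgroupOf 2 (S : Subgroup G) : Set G) ≤ L) (a b g : G)
    (ha : thompsonSubgroupOf 2 (S : Subgroup G) ≤ Subgroup.centralizer ({a} : Set G))
    (hb : thompsonSubgroupOf 2 (S : Subgroup G) ≤ Subgroup.centralizer ({b} : Set G))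
    (hbL : Subgroup.centralizer ({b} : Set G) ≤ L) (hg : g * a * g⁻¹ = b) : g ∈ L := by
  haveI : Fact (Nat.Prime 2) := ⟨Nat.prime_two⟩
  set J := thompsonSubgroupOf 2 (S : Subgroup G) with hJdef
  set C := Subgroup.centralizer ({b} : Set G) with hCdef
  -- the conjugate `g J g⁻¹` lies in `C`
  have hJg : J.map (MulAut.conj g).toMonoidHom ≤ C := by
    rintro _ ⟨y, hy, rfl⟩
    have hya := ha hy
    rw [Subgroup.mem_centralizer_iff] at hya ⊢
    intro z hz
    rw [Set.mem_singleton_iff] at hz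
    subst hz
    have h1 := hya a rfl
    rw [← hg]
    simp only [MulEquiv.coe_toMonoidHom, MulAut.conj_apply]
    calc g * a * g⁻¹ * (g * y * g⁻¹) = g * (a * y) * g⁻¹ := by group
      _ = g * (y * a) * g⁻¹ := by rw [h1]
      _ = g * y * g⁻¹ * (g * a * g⁻¹) := by group
  have hJS : J ≤ (S : Subgroup G) := thompsonSubgroupOf_le 2 _
  have hJp : IsPGroup 2 J := S.isPGroup'.to_le hJS
  have hJgp : IsPGroup 2 (J.map (MulAut.conj g).toMonoidHom) := hJp.map _
  -- Sylow subgroups of `C` containing `J` and `g J g⁻¹`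
  obtain ⟨P, hP⟩ := (hJp.comap_subtype : IsPGroup 2 (J.subgroupOf C)).exists_le_sylow
  obtain ⟨Q, hQ⟩ := (hJgp.comap_subtype :
    IsPGroup 2 ((J.map (MulAut.conj g).toMonoidHom).subgroupOf C)).exists_le_sylow
  obtain ⟨c, hc⟩ := MulAction.exists_smul_eq C P Q
  have hcC : (c : G) ∈ C := c.2
  set P' : Subgroup G := (P : Subgroup C).map C.subtype with hP'def
  set Q' : Subgroup G := (Q : Subgroup C).map C.subtype with hQ'def
  have hP'p : IsPGroup 2 P' := P.isPGroup'.map _
  have hQ'p : IsPGroup 2 Q' := Q.isPGroup'.map _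
  have hJP' : J ≤ P' := by
    rw [← Subgroup.map_subgroupOf_eq_of_le hb]
    exact Subgroup.map_mono hP
  have hJQ' : J.map (MulAut.conj g).toMonoidHom ≤ Q' := by
    rw [← Subgroup.map_subgroupOf_eq_of_le hJg]
    exact Subgroup.map_mono hQ
  have hQP : Q' = P'.map (MulAut.conj (c : G)).toMonoidHom := by
    have h1 : (Q : Subgroup C) = (P : Subgroup C).map (MulAut.conj c).toMonoidHom := by
      rw [← hc]
      rfl
    rw [hQ'def, hP'def, h1, Subgroup.map_map, Subgroup.map_map]
    congr 1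
  -- the Thompson subgroups
  have h1 : thompsonSubgroupOf 2 P' = J := thompsonOf_eq_of_le_pgroup 2 S P' hP'p hJP'
  have hSg : ((g • S : Sylow 2 G) : Subgroup G) = (S : Subgroup G).map (MulAut.conj g).toMonoidHom :=
    rfl
  have h2 : thompsonSubgroupOf 2 Q' = J.map (MulAut.conj g).toMonoidHom := by
    have h3 := thompsonOf_eq_of_le_pgroup 2 (g • S : Sylow 2 G) Q' hQ'p (by
      rw [hSg, thompsonOf_conj]
      exact hJQ')
    rw [h3, hSg, thompsonOf_conj]
  have h4 : J.map (MulAut.conj g).toMonoidHom = J.map (MulAut.conj (c : G)).toMonoidHom := by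
    rw [← h2, hQP, thompsonOf_conj, h1]
  -- `c⁻¹ g` normalizes `J`
  have hn : (c : G)⁻¹ * g ∈ Subgroup.normalizer (J : Set G) := by
    rw [Subgroup.mem_normalizer_iff]
    intro h
    constructor
    · intro hh
      have h5 : (MulAut.conj g).toMonoidHom h ∈ J.map (MulAut.conj (c : G)).toMonoidHom := by
        rw [← h4]
        exact Subgroup.mem_map_of_mem _ hh
      obtain ⟨j, hj, hjeq⟩ := h5
      simp only [MulEquiv.coe_toMonoidHom, MulAut.conj_apply] at hjeq
      have : (c : G)⁻¹ * g * h * ((c : G)⁻¹ * g)⁻¹ = j := by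
        calc (c : G)⁻¹ * g * h * ((c : G)⁻¹ * g)⁻¹ = (c : G)⁻¹ * (g * h * g⁻¹) * c := by group
          _ = (c : G)⁻¹ * ((c : G) * j * (c : G)⁻¹) * c := by rw [hjeq]
          _ = j := by group
      rw [this]
      exact hj
    · intro hh
      have h5 : (MulAut.conj (c : G)).toMonoidHom ((c : G)⁻¹ * g * h * ((c : G)⁻¹ * g)⁻¹) ∈
          J.map (MulAut.conj g).toMonoidHom := by
        rw [h4]
        exact Subgroup.mem_map_of_mem _ hh
      obtain ⟨j, hj, hjeq⟩ := h5
      simp only [MulEquiv.coe_toMonoidHom, MulAut.conj_apply] at hjeq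
      have : h = j := by
        have h6 : g * j * g⁻¹ = g * h * g⁻¹ := by
          rw [hjeq]
          group
        have h7 : g⁻¹ * (g * j * g⁻¹) * g = g⁻¹ * (g * h * g⁻¹) * g := by rw [h6]
        have h8 : g⁻¹ * (g * j * g⁻¹) * g = j := by group
        have h9 : g⁻¹ * (g * h * g⁻¹) * g = h := by group
        rw [← h9, ← h7, h8]
      rw [this]
      exact hj
  have hfin : g = (c : G) * ((c : G)⁻¹ * g) := by group
  rw [hfin]
  exact L.mul_mem (hbL hcC) (hNJ hn)

end Cfsg.Agent.Lib.Helper76.KS12
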